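import Groth.Agent.Lib.Chev28.IrredBase
import Groth.Agent.Lib.Chev28.DimFormula

/-!
# Chevalley's criterion over a base with finitely many components and geometrically unibranch local rings
-/

set_option autoImplicit false
set_option linter.style.haveILetI false

universe u

open CategoryTheory CategoryTheory.Limits AlgebraicGeometry Topology

namespace GrothLib.UnibOpen6

variable {X Y : Scheme.{u}}

theorem exists_most_generic (y : Y) (hy : CAlg2.IsGeomUnibranch (Y.presheaf.stalk y)) :
    ∃ η : Y, η ⤳ y ∧ ∀ y', y' ⤳ y → η ⤳ y' := by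
  haveI : (nilradical (Y.presheaf.stalk y)).IsPrime := (Ideal.Quotient.isDomain_iff_prime _).mp hy.1.1
  refine ⟨Y.fromSpecStalk y ⟨nilradical (Y.presheaf.stalk y), inferInstance⟩, ?_, fun y' hy' => ?_⟩
  · exact Scheme.range_fromSpecStalk.le ⟨_, rfl⟩
  · obtain ⟨p, rfl⟩ := Scheme.range_fromSpecStalk.ge hy'
    exact ((PrimeSpectrum.le_iff_specializes
      (⟨nilradical (Y.presheaf.stalk y), inferInstance⟩ : PrimeSpectrum (Y.presheaf.stalk y)) p).1
        (nilradical_le_prime _)).map (Y.fromSpecStalk y).continuous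

theorem eq_of_mem_components (hY : ∀ y : Y, CAlg2.IsGeomUnibranch (Y.presheaf.stalk y)) {C D : Set Y}
    (hC : C ∈ irreducibleComponents (Y : Type u)) (hD : D ∈ irreducibleComponents (Y : Type u)) {y : Y}
    (hyC : y ∈ C) (hyD : y ∈ D) : C = D := by
  obtain ⟨η, -, hη⟩ := exists_most_generic y (hY y)
  obtain ⟨a, ha⟩ := QuasiSober.sober hC.1 (isClosed_of_mem_irreducibleComponents _ hC)
  obtain ⟨b, hb⟩ := QuasiSober.sober hD.1 (isClosed_of_mem_irreducibleComponents _ hD)
  have key : ∀ (T : Set Y) (c : Y), T ∈ irreducibleComponents (Y : Type u) → IsGenericPoint c T → y ∈ T →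
      closure {η} = T := fun T c hT hc hyT => by
    refine le_antisymm (hT.2 (y := closure {η}) isIrreducible_singleton.closure fun t ht => ?_) fun t ht => ?_
    · exact ((hη c (hc.specializes hyT)).trans (hc.specializes ht)).mem_closure
    · exact ((hη c (hc.specializes hyT)).trans (hc.specializes ht)).mem_closure
  rw [← key C a hC ha hyC, key D b hD hb hyD]

theorem isOpen_component (hY : ∀ y : Y, CAlg2.IsGeomUnibranch (Y.presheaf.stalk y))
    (hfin : (irreducibleComponents (Y : Type u)).Finite) {C : Set Y} (hC : C ∈ irreducibleComponents (Y : Type u)) :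
    IsOpen C := by
  have he : C = (⋃ D ∈ irreducibleComponents (Y : Type u) \ {C}, D)ᶜ := by
    ext y
    simp only [Set.mem_compl_iff, Set.mem_iUnion, exists_prop, not_exists, not_and, Set.mem_sdiff,
      Set.mem_singleton_iff]
    refine ⟨fun hy D hD hyD => hD.2 (eq_of_mem_components hY hD.1 hC hyD hy), fun h => ?_⟩
    by_contra hy
    exact h (irreducibleComponent y) ⟨irreducibleComponent_mem_irreducibleComponents y,
      fun he => hy (he ▸ mem_irreducibleComponent)⟩ mem_irreducibleComponent
  rw [he, isOpen_compl_iff]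
  exact hfin.sdiff.isClosed_biUnion fun D hD => isClosed_of_mem_irreducibleComponents D hD.1

theorem universallyOpen_of_conditionT
    (hY : ∀ y : Y, CAlg2.IsGeomUnibranch (Y.presheaf.stalk y))
    (hfin : (irreducibleComponents (Y : Type u)).Finite) (f : X ⟶ Y) [LocallyOfFiniteType f]
    (hT : ∀ x : X, ∃ W : TopologicalSpace.Closeds X, (W : Set X) ∈ irreducibleComponents (X : Type u) ∧
      ∃ w : ↥((Scheme.IdealSheafData.vanishingIdeal W).subscheme),
        (Scheme.IdealSheafData.vanishingIdeal W).subschemeι.base w = x ∧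
        EGA43.IsEquidimAt ((Scheme.IdealSheafData.vanishingIdeal W).subschemeι ≫ f) w) :
    UniversallyOpen f := by
  refine Chev28.universallyOpen_of_forall_isUnivOpenAt f fun x => ?_
  obtain ⟨W, hW, w, hw, heq⟩ := hT x
  let Z := (Scheme.IdealSheafData.vanishingIdeal W).subscheme
  let ι := (Scheme.IdealSheafData.vanishingIdeal W).subschemeι
  have hrange : Set.range ι = W := RedSub.range_subschemeι_vanishingIdeal W
  haveI : IrreducibleSpace Z := (GeomComp6.isIrreducible_range_iff ι ι.isEmbedding).mp (hrange.symm ▸ hW.1)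
  haveI : IsReduced Z := RedSub.isReduced_subscheme_vanishingIdeal W
  haveI : IsIntegral Z := isIntegral_of_irreducibleSpace_of_isReduced Z
  let h := ι ≫ f
  obtain ⟨n, hn, hξ⟩ := Chev28.components_of_isEquidimAt h w heq
  obtain ⟨hη, htr⟩ := hξ (genericPoint Z) (genericPoint_specializes w)
    fun z hz => (hz.antisymm (genericPoint_specializes z)).eq
  have hC : closure ({h (genericPoint Z)} : Set Y) ∈ irreducibleComponents (Y : Type u) :=
    Equidim6.closure_mem_components hη
  let C : Y.Opens := ⟨closure {h (genericPoint Z)}, isOpen_component hY hfin hC⟩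
  have hrh : Set.range h ⊆ Set.range C.ι := by
    rw [Scheme.Opens.range_ι]
    rintro _ ⟨z, rfl⟩
    exact ((genericPoint_specializes z).map h.continuous).mem_closure
  let h' : Z ⟶ (C : Scheme.{u}) := IsOpenImmersion.lift C.ι h hrh
  have hfac : h' ≫ C.ι = h := IsOpenImmersion.lift_fac _ _ _
  haveI : LocallyOfFiniteType (h' ≫ C.ι) := by rw [hfac]; infer_instance
  haveI : LocallyOfFiniteType h' := locallyOfFiniteType_of_comp h' C.ι
  have hap : ∀ z, C.ι (h' z) = h z := fun z => by rw [← Scheme.Hom.comp_apply, hfac]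
  haveI : IrreducibleSpace ↥C := Subtype.irreducibleSpace isIrreducible_singleton.closure
  haveI : IrreducibleSpace (C : Scheme.{u}) := ‹IrreducibleSpace ↥C›
  have hC' : ∀ c : (C : Scheme.{u}), CAlg2.IsGeomUnibranch ((C : Scheme.{u}).presheaf.stalk c) := fun c =>
    (GeomUnib.isGeomUnibranch_stalk_openImmersion_iff C.ι c).1 (hY _)
  have hη' : ∀ y', y' ⤳ h' (genericPoint Z) → y' = h' (genericPoint Z) := fun y' hy' =>
    C.ι.isOpenEmbedding.injective ((hη _ ((hy'.map C.ι.continuous).trans (specializes_of_eq (hap _)))).trans (hap _).symm)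
  have htr' : Dual3.resTrdeg h' (genericPoint Z) = n := by
    rw [← htr, ← hfac, AlgSp.resTrdeg_comp, AlgSp.resTrdeg_eq_zero_of_lqf C.ι, zero_add]
  have hdim : FlatMor.fibreDimAt h' w = FlatMor.fibreDimAt h w := by
    have hset : h' ⁻¹' {h' w} = h ⁻¹' {h w} := by
      ext z
      show h' z = h' w ↔ h z = h w
      rw [← hap z, ← hap w]
      exact (C.ι.isOpenEmbedding.injective.eq_iff).symm
    let e : h'.fiber (h' w) ≃ₜ h.fiber (h w) :=
      (h'.fiberHomeo (h' w)).trans ((Homeomorph.setCongr hset).trans (h.fiberHomeo (h w)).symm)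
    have he : e (h'.asFiber w) = h.asFiber w := (h.fiberι (h w)).isEmbedding.injective (by
      simp [e, Scheme.Hom.asFiber]; rfl)
    unfold FlatMor.fibreDimAt
    rw [← he]
    exact (Chev28.localDim_homeomorph e (h'.asFiber w)).symm
  have hu : EGA43.IsUnivOpenAt h' w :=
    Chev28.isUnivOpenAt_of_integral_irred h' w hη' hC' n htr' (hdim.trans hn).le
  have hu' : EGA43.IsUnivOpenAt h w := by
    rw [← hfac]
    exact OpenAt.univOpenAt_comp hu fun Y' g p _ U hU =>
      (pullback.snd C.ι g).isOpenEmbedding.isOpenMap.image_mem_nhds hU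
  exact hw ▸ Chev28.isUnivOpenAt_of_comp ι f w hu'

end GrothLib.UnibOpen6
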